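import Groth.Agent.H2.Rigid.GeomRegFibre
import Groth.Agent.Lib.Flat55.FibreNoetherian
import Groth.Agent.Lib.Flat55.FlatDescend

/-!
# Properties of algebras over fields read on the fibres of a morphism, and fppf base change

For a property `P` of algebras over fields which is local on the algebra and insensitive to field
extensions essentially of finite type, "flat with fibre rings having `P` on all affine charts" is
"flat with all local rings of all fibres having `P`", and this is invariant under fppf base change.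
-/

set_option autoImplicit false
set_option linter.style.haveILetI false
universe u

open CategoryTheory CategoryTheory.Limits AlgebraicGeometry TensorProduct
open Groth.Agent.H52.FBase

namespace Groth.Agent.H21.PropFibre

/-- A property of algebras over fields. -/
def FieldAlgProp : Type (u + 1) :=
  ∀ (k : Type u) [Field k] (A : Type u) [CommRing A] [Algebra k A], Prop

/-- A property which is local and invariant under small field extensions. -/
structure Good (P : FieldAlgProp.{u}) : Prop where
  congr : ∀ (k : Type u) [Field k] (A B : Type u) [CommRing A] [CommRing B] [Algebra k A] [Algebra k B]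
    (_ : A ≃ₐ[k] B), P k A → P k B
  localization : ∀ (k : Type u) [Field k] (F : Type u) [CommRing F] [Algebra k F] [IsNoetherianRing F]
    (q : Ideal F) [q.IsPrime], P k F → P k (Localization.AtPrime q)
  ofLocal : ∀ (k : Type u) [Field k] (F : Type u) [CommRing F] [Algebra k F] [IsNoetherianRing F],
    (∀ (q : Ideal F) [q.IsPrime], P k (Localization.AtPrime q)) → P k F
  baseChange : ∀ (k K : Type u) [Field k] [Field K] [Algebra k K] [Algebra.EssFiniteType k K]
    (A : Type u) [CommRing A] [Algebra k A] [IsNoetherianRing A], P k A ↔ P K (K ⊗[k] A)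

variable {P : FieldAlgProp.{u}}

/-- `P` of the local ring at `z`. -/
def Pt (P : FieldAlgProp.{u}) {k : Type u} [Field k] {Z : Scheme.{u}}
    (g : Z ⟶ Spec (CommRingCat.of k)) (z : Z) : Prop :=
  P k (StalkBC.Ox g z)

variable {k : Type u} [Field k] {Z : Scheme.{u}}

theorem pt_openImmersion (hP : Good P) {Z' : Scheme.{u}} (l : Z' ⟶ Z) [IsOpenImmersion l]
    (g : Z ⟶ Spec (CommRingCat.of k)) (g' : Z' ⟶ Spec (CommRingCat.of k)) (hg : l ≫ g = g') (z : Z') :
    Pt P g' z ↔ Pt P g (l z) := by
  have hb : Function.Bijective (l.stalkMap z).hom := ConcreteCategory.bijective_of_isIso (l.stalkMap z)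
  let e : StalkBC.Ox g (l z) ≃ₐ[k] StalkBC.Ox g' z :=
    AlgEquiv.ofRingEquiv (f := RingEquiv.ofBijective (l.stalkMap z).hom hb) fun c => by
      have key : CommRingCat.ofHom (StalkBC.φ g (l z)) ≫ l.stalkMap z =
          CommRingCat.ofHom (StalkBC.φ g' z) := by
        apply Spec.map_injective
        rw [Spec.map_comp, StalkBC.specMap_φ, StalkBC.specMap_φ, ← hg,
          Scheme.SpecMap_stalkMap_fromSpecStalk_assoc]
      exact congr($(key).hom c)
  exact ⟨hP.congr _ _ _ e.symm, hP.congr _ _ _ e⟩

/-- Changing the base field by an isomorphism. -/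
theorem pt_iso (hP : Good P) [IsLocallyNoetherian Z] {k' : Type u} [Field k']
    (e : Spec (CommRingCat.of k) ≅ Spec (CommRingCat.of k'))
    (g : Z ⟶ Spec (CommRingCat.of k)) (g' : Z ⟶ Spec (CommRingCat.of k')) (hg : g ≫ e.hom = g')
    (z : Z) : Pt P g z → Pt P g' z := by
  intro h
  let t : k' →+* k := (Spec.preimage e.hom).hom
  have ht : Function.Surjective t := by
    intro c
    refine ⟨(Spec.preimage e.inv).hom c, ?_⟩
    have : Spec.preimage e.inv ≫ Spec.preimage e.hom = 𝟙 _ := Spec.map_injective
      (by rw [Spec.map_comp, Spec.map_preimage, Spec.map_preimage, Spec.map_id, e.hom_inv_id])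
    exact congr($(this).hom c)
  have key : StalkBC.φ g' z = (StalkBC.φ g z).comp t := by
    refine congrArg CommRingCat.Hom.hom (Spec.map_injective
      (a₁ := CommRingCat.ofHom (StalkBC.φ g' z))
      (a₂ := Spec.preimage e.hom ≫ CommRingCat.ofHom (StalkBC.φ g z)) ?_)
    rw [Spec.map_comp, StalkBC.specMap_φ, StalkBC.specMap_φ, Spec.map_preimage, Category.assoc, hg]
  let A := StalkBC.Ox g z
  haveI : IsNoetherianRing A := inferInstanceAs (IsNoetherianRing (Z.presheaf.stalk z))
  letI : Algebra k' k := t.toAlgebra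
  haveI : Module.Finite k' k := Module.Finite.of_surjective (Algebra.linearMap k' k) ht
  letI : Algebra k' A := ((algebraMap k A).comp t).toAlgebra
  haveI : IsScalarTower k' k A := IsScalarTower.of_algebraMap_eq' rfl
  let μ : k ⊗[k'] A →ₐ[k] A := Algebra.TensorProduct.lift (Algebra.ofId k A) (AlgHom.id k' A)
    fun _ _ => Commute.all _ _
  have hμ : Function.Bijective μ := by
    refine Function.bijective_iff_has_inverse.2 ⟨fun a => (1 : k) ⊗ₜ[k'] a, fun x => ?_, fun a => by simp [μ]⟩
    induction x using TensorProduct.induction_on with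
    | zero => simp
    | add x y hx hy => simp only [map_add, TensorProduct.tmul_add, hx, hy]
    | tmul c a =>
      obtain ⟨c', rfl⟩ := ht c
      change (1 : k) ⊗ₜ[k'] μ (algebraMap k' k c' ⊗ₜ a) = algebraMap k' k c' ⊗ₜ a
      have h1 : μ (algebraMap k' k c' ⊗ₜ[k'] a) = c' • a := by
        simp [μ, Algebra.smul_def, ← IsScalarTower.algebraMap_apply]
      rw [h1, Algebra.algebraMap_eq_smul_one, TensorProduct.smul_tmul]
  have h' := (hP.baseChange k' k A).2 (hP.congr _ _ _ (AlgEquiv.ofBijective μ hμ).symm h)
  have hA : (inferInstance : Algebra k' (StalkBC.Ox g' z)) = ((algebraMap k A).comp t).toAlgebra :=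
    Algebra.algebra_ext _ _ fun c => congr($(key) c)
  exact (congrArg (fun i : Algebra k' (Z.presheaf.stalk z) =>
    @P k' _ (Z.presheaf.stalk z) _ i) hA).mpr h'

theorem pt_iso_iff (hP : Good P) [IsLocallyNoetherian Z] {k' : Type u} [Field k']
    (e : Spec (CommRingCat.of k) ≅ Spec (CommRingCat.of k'))
    (g : Z ⟶ Spec (CommRingCat.of k)) (g' : Z ⟶ Spec (CommRingCat.of k')) (hg : g ≫ e.hom = g')
    (z : Z) : Pt P g z ↔ Pt P g' z :=
  ⟨pt_iso hP e g g' hg z,
    pt_iso hP e.symm g' g (by rw [← hg, Category.assoc, Iso.symm_hom, e.hom_inv_id, Category.comp_id]) z⟩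

/-- Affine form. -/
theorem pt_spec_iff (hP : Good P) (F : Type u) [CommRing F] [Algebra k F] [IsNoetherianRing F] :
    (∀ q : Spec (CommRingCat.of F), Pt P (Spec.map (CommRingCat.ofHom (algebraMap k F))) q) ↔
      P k F := by
  let g := Spec.map (CommRingCat.ofHom (algebraMap k F))
  have e : ∀ q : Spec (CommRingCat.of F),
      Nonempty (StalkBC.Ox g q ≃ₐ[k] Localization.AtPrime (PrimeSpectrum.asIdeal (R := F) q)) := by
    intro q
    refine ⟨AlgEquiv.ofRingEquiv (f := (Spec.stalkIso _ q).commRingCatIsoToRingEquiv) fun c => ?_⟩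
    have key : CommRingCat.ofHom (StalkBC.φ g q) = CommRingCat.ofHom (algebraMap k F) ≫
        CommRingCat.ofHom (algebraMap F (Localization.AtPrime (PrimeSpectrum.asIdeal (R := F) q))) ≫
          (Spec.stalkIso (CommRingCat.of F) q).inv := by
      apply Spec.map_injective
      rw [StalkBC.specMap_φ, Spec.map_comp, Spec.fromSpecStalk_eq]
      exact congrArg (· ≫ g) (congrArg Spec.map (Spec.algebraMap_stalkIso_inv (R := CommRingCat.of F) q).symm)
    have := congr($(key).hom c)
    refine (congrArg (Spec.stalkIso (CommRingCat.of F) q).hom this).trans ?_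
    rw [IsScalarTower.algebraMap_apply k F (Localization.AtPrime (PrimeSpectrum.asIdeal (R := F) q))]
    exact congr($((Spec.stalkIso (CommRingCat.of F) q).inv_hom_id).hom
      (algebraMap F (Localization.AtPrime (PrimeSpectrum.asIdeal (R := F) q)) (algebraMap k F c)))
  constructor
  · intro h
    refine hP.ofLocal k F fun p hp => ?_
    let q : Spec (CommRingCat.of F) := (⟨p, hp⟩ : PrimeSpectrum F)
    obtain ⟨e'⟩ := e q
    exact hP.congr _ _ _ e' (h q)
  · intro h q
    obtain ⟨e'⟩ := e q
    exact hP.congr _ _ _ e'.symm (hP.localization k F _ h)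

/-- Invariance under an extension of the ground field. -/
theorem forall_pt_iff_of_fieldExtension (hP : Good P) {K : Type u} [Field K] [Algebra k K]
    [Algebra.EssFiniteType k K] {Z' : Scheme.{u}} [IsLocallyNoetherian Z] (π : Z' ⟶ Z)
    (p : Z ⟶ Spec (CommRingCat.of k)) (p' : Z' ⟶ Spec (CommRingCat.of K))
    (hc : IsPullback π p' p (Spec.map (CommRingCat.ofHom (algebraMap k K)))) :
    (∀ z, Pt P p z) ↔ ∀ z', Pt P p' z' := by
  have key : ∀ (W : Z.Opens), IsAffineOpen W →
      ((∀ z ∈ W, Pt P p z) ↔ ∀ z', π z' ∈ W → Pt P p' z') := by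
    intro W hW
    let B := ↑Γ(Z, W)
    letI : Algebra k B := (Spec.preimage (hW.fromSpec ≫ p)).hom.toAlgebra
    have hj : hW.fromSpec ≫ p = Spec.map (CommRingCat.ofHom (algebraMap k B)) :=
      (Spec.map_preimage (hW.fromSpec ≫ p)).symm
    haveI : IsNoetherianRing B := IsLocallyNoetherian.component_noetherian ⟨W, hW⟩
    haveI : IsNoetherianRing (B ⊗[k] K) := Algebra.EssFiniteType.isNoetherianRing B _
    haveI : IsNoetherianRing (K ⊗[k] B) :=
      isNoetherianRing_of_ringEquiv _ (Algebra.TensorProduct.comm k B K).toRingEquiv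
    let incR := Spec.map (CommRingCat.ofHom
      (Algebra.TensorProduct.includeRight (R := k) (A := K) (B := B)).toRingHom)
    let algK := Spec.map (CommRingCat.ofHom (algebraMap K (K ⊗[k] B)))
    have sq0 : IsPullback incR algK (Spec.map (CommRingCat.ofHom (algebraMap k B)))
        (Spec.map (CommRingCat.ofHom (algebraMap k K))) :=
      (isPullback_SpecMap_of_isPushout _ _ _ _ (CommRingCat.isPushout_tensorProduct k K B)).flip
    have w : (incR ≫ hW.fromSpec) ≫ p = algK ≫ Spec.map (CommRingCat.ofHom (algebraMap k K)) := by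
      rw [Category.assoc, hj]
      exact sq0.w
    let j' := hc.lift (incR ≫ hW.fromSpec) algK w
    have sq : IsPullback incR j' hW.fromSpec π := by
      refine IsPullback.of_bot ?_ (hc.lift_fst _ _ w).symm hc
      rw [hc.lift_snd, hj]
      exact sq0
    haveI : IsOpenImmersion j' :=
      MorphismProperty.of_isPullback (P := @IsOpenImmersion) sq inferInstance
    have hmem : ∀ t, π (j' t) ∈ W := by
      intro t
      rw [← Scheme.Hom.comp_apply, ← sq.w, Scheme.Hom.comp_apply]
      exact hW.range_fromSpec.subset ⟨_, rfl⟩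
    have hrange : ∀ z', π z' ∈ W → z' ∈ Set.range j' := by
      intro z' hz'
      obtain ⟨b, hb⟩ : π z' ∈ Set.range hW.fromSpec := by rw [hW.range_fromSpec]; exact hz'
      obtain ⟨q, -, hq⟩ := Scheme.Pullback.exists_preimage_pullback b z'
        (f := hW.fromSpec) (g := π) hb
      obtain ⟨q', rfl⟩ := sq.isoPullback.hom.surjective q
      refine ⟨q', ?_⟩
      rw [← hq]
      exact congrArg (fun m : _ ⟶ Z' => m q') (sq.isoPullback_hom_snd).symm
    have h1 : (∀ z ∈ W, Pt P p z) ↔ P k B := by
      rw [← pt_spec_iff hP B]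
      constructor
      · exact fun h q => (pt_openImmersion hP hW.fromSpec p _ hj q).2
          (h _ (hW.range_fromSpec.subset ⟨q, rfl⟩))
      · intro h z hz
        obtain ⟨q, rfl⟩ : z ∈ Set.range hW.fromSpec := by rw [hW.range_fromSpec]; exact hz
        exact (pt_openImmersion hP hW.fromSpec p _ hj q).1 (h q)
    have h2 : (∀ z', π z' ∈ W → Pt P p' z') ↔ P K (K ⊗[k] B) := by
      rw [← pt_spec_iff hP (K ⊗[k] B)]
      constructor
      · exact fun h q => (pt_openImmersion hP j' p' _ (hc.lift_snd _ _ w) q).2 (h _ (hmem q))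
      · intro h z' hz'
        obtain ⟨q, rfl⟩ := hrange z' hz'
        exact (pt_openImmersion hP j' p' _ (hc.lift_snd _ _ w) q).1 (h q)
    rw [h1, h2]
    exact hP.baseChange k K B
  constructor
  · intro h z'
    obtain ⟨W, hW, hzW, -⟩ := exists_isAffineOpen_mem_and_subset (X := Z) (x := π z') (U := ⊤) trivial
    exact (key W hW).1 (fun z _ => h z) z' hzW
  · intro h z
    obtain ⟨W, hW, hzW, -⟩ := exists_isAffineOpen_mem_and_subset (X := Z) (x := z) (U := ⊤) trivial
    exact (key W hW).2 (fun z' _ => h z') z hzW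

end Groth.Agent.H21.PropFibre
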