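import Groth.Agent.H21.PropFibre.Basic

/-!
# The affine-local and pointwise forms, and fppf base change
-/

set_option autoImplicit false
set_option linter.style.haveILetI false
universe u

open CategoryTheory CategoryTheory.Limits AlgebraicGeometry TensorProduct

namespace Groth.Agent.H21.PropFibre

variable {P : FieldAlgProp.{u}} {X Y : Scheme.{u}}

/-- On all affine charts: flat, with fibre rings having `P`. -/
def Charts (P : FieldAlgProp.{u}) (f : X ⟶ Y) : Prop :=
  ∀ (U : X.Opens) (V : Y.Opens) (_ : IsAffineOpen U) (_ : IsAffineOpen V) (hUV : U ≤ f ⁻¹ᵁ V),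
    letI := (f.appLE V U hUV).hom.toAlgebra
    Module.Flat Γ(Y, V) Γ(X, U) ∧ ∀ (p : Ideal Γ(Y, V)) [p.IsPrime], P p.ResidueField (p.Fiber Γ(X, U))

theorem charts_iff (hP : Good P) (f : X ⟶ Y) (hN : ∀ y : Y, IsLocallyNoetherian (f.fiber y)) :
    Charts P f ↔ Flat f ∧ ∀ (y : Y) (z : f.fiber y),
      Pt P (k := Y.residueField y) (f.fiberToSpecResidueField y) z := by
  have chart : ∀ (U : X.Opens) (V : Y.Opens) (hU : IsAffineOpen U) (hV : IsAffineOpen V) (hUV : U ≤ f ⁻¹ᵁ V),
      letI := (f.appLE V U hUV).hom.toAlgebra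
      ∀ p : PrimeSpectrum Γ(Y, V),
        ((∀ z : ↥(f.fiber (hV.fromSpec p)),
            Pt P (k := Y.residueField (hV.fromSpec p)) (f.fiberToSpecResidueField _) z) →
          P p.asIdeal.ResidueField (p.asIdeal.Fiber Γ(X, U))) ∧
        (P p.asIdeal.ResidueField (p.asIdeal.Fiber Γ(X, U)) →
          ∀ z : ↥(f.fiber (hV.fromSpec p)), f.fiberι _ z ∈ Set.range hU.fromSpec →
            Pt P (k := Y.residueField (hV.fromSpec p)) (f.fiberToSpecResidueField _) z) := by
    intro U V hU hV hUV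
    letI := (f.appLE V U hUV).hom.toAlgebra
    intro p
    obtain ⟨e, j, _, hj, hr⟩ := H2.Rigid.GeomRegFibre.exists_chart f Γ(Y, V) Γ(X, U) hV.fromSpec hU.fromSpec
      (IsAffineOpen.SpecMap_appLE_fromSpec f hV hU hUV).symm p
    have := hN (hV.fromSpec p)
    have hF : IsNoetherianRing (p.asIdeal.Fiber Γ(X, U)) :=
      isLocallyNoetherian_Spec.1 (isLocallyNoetherian_of_isOpenImmersion j)
    refine ⟨fun h => (pt_spec_iff hP _).1 fun q => ?_, fun h z hz => ?_⟩
    · exact (pt_openImmersion hP j (f.fiberToSpecResidueField _ ≫ e.hom) _ hj q).2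
        ((pt_iso_iff hP (k := Y.residueField (hV.fromSpec p)) e (f.fiberToSpecResidueField _) _ rfl _).1 (h _))
    · obtain ⟨q, rfl⟩ := hr z hz
      exact (pt_iso_iff hP (k := Y.residueField (hV.fromSpec p)) e (f.fiberToSpecResidueField _) _ rfl _).2
        ((pt_openImmersion hP j (f.fiberToSpecResidueField _ ≫ e.hom) _ hj q).1
          ((pt_spec_iff hP _).2 h q))
  constructor
  · intro h
    refine ⟨?_, fun y z => ?_⟩
    · rw [HasRingHomProperty.iff_appLE (P := @Flat)]
      intro V U e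
      letI := (f.appLE V.1 U.1 e).hom.toAlgebra
      exact (h U.1 V.1 U.2 V.2 e).1
    obtain ⟨V, hV, hyV, -⟩ := exists_isAffineOpen_mem_and_subset (X := Y) (x := y) (U := ⊤) trivial
    obtain ⟨p, rfl⟩ : y ∈ Set.range hV.fromSpec := by rw [hV.range_fromSpec]; exact hyV
    have hfz : f.fiberι (hV.fromSpec p) z ∈ f ⁻¹ᵁ V := by
      have hr : f.fiberι (hV.fromSpec p) z ∈ Set.range (f.fiberι (hV.fromSpec p)) := ⟨z, rfl⟩
      rw [f.range_fiberι] at hr
      show f _ ∈ V
      rw [hr]
      exact hyV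
    obtain ⟨U, hU, hxU, hUV⟩ := exists_isAffineOpen_mem_and_subset hfz
    exact (chart U V hU hV hUV p).2 ((h U V hU hV hUV).2 p.asIdeal) z
      (by rw [hU.range_fromSpec]; exact hxU)
  · rintro ⟨hflat, h⟩ U V hU hV hUV
    letI := (f.appLE V U hUV).hom.toAlgebra
    exact ⟨(HasRingHomProperty.appLE @Flat f hflat ⟨V, hV⟩ ⟨U, hU⟩ hUV : _),
      fun p hp => (chart U V hU hV hUV ⟨p, hp⟩).1 fun z => h _ z⟩

/-- fppf base change. -/
theorem fppf_iff (hP : Good P) {X' Y' : Scheme.{u}} {f : X ⟶ Y} {f' : X' ⟶ Y'} {g' : X' ⟶ X}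
    {g : Y' ⟶ Y} [Flat g] [LocallyOfFinitePresentation g] [Surjective g] (hc : IsPullback g' f' f g) :
    ((∀ y : Y, IsLocallyNoetherian (f.fiber y)) ∧ Charts P f) ↔
      (∀ y' : Y', IsLocallyNoetherian (f'.fiber y')) ∧ Charts P f' := by
  have pts : ∀ (y' : Y'), IsLocallyNoetherian (f.fiber (g y')) →
      ((∀ z : f.fiber (g y'), Pt P (k := Y.residueField (g y')) (f.fiberToSpecResidueField _) z) ↔
        ∀ z : f'.fiber y', Pt P (k := Y'.residueField y') (f'.fiberToSpecResidueField _) z) := by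
    intro y' _
    have hout : IsPullback (f'.fiberι y' ≫ g') (f'.fiberToSpecResidueField y') f
        (Spec.map (g.residueFieldMap y') ≫ Y.fromSpecResidueField (g y')) := by
      rw [Scheme.Hom.SpecMap_residueFieldMap_fromSpecResidueField]
      exact (IsPullback.of_hasPullback f' (Y'.fromSpecResidueField y')).paste_horiz hc
    let π : f'.fiber y' ⟶ f.fiber (g y') :=
      pullback.lift (f'.fiberι y' ≫ g') (f'.fiberToSpecResidueField y' ≫ Spec.map (g.residueFieldMap y'))
        (by rw [Category.assoc]; exact hout.w.trans (Category.assoc _ _ _).symm |>.trans (Category.assoc _ _ _))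
    have hπ : IsPullback π (f'.fiberToSpecResidueField y') (f.fiberToSpecResidueField (g y'))
        (Spec.map (g.residueFieldMap y')) := by
      refine IsPullback.of_right ?_ (pullback.lift_snd _ _ _)
        (IsPullback.of_hasPullback f (Y.fromSpecResidueField (g y')))
      convert hout using 1
      exact pullback.lift_fst _ _ _
    letI := (g.residueFieldMap y').hom.toAlgebra
    haveI : Algebra.EssFiniteType (Y.residueField (g y')) (Y'.residueField y') :=
      Lib.Cyc.Residue.residueFieldMap_essFiniteType (f := g) y'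
    exact forall_pt_iff_of_fieldExtension hP π _ _ hπ
  constructor
  · rintro ⟨hN, h⟩
    have hN' : ∀ y' : Y', IsLocallyNoetherian (f'.fiber y') := fun y' =>
      (Lib.Flat55.FibreNoetherian.fiber_iff f f' g' g hc y').1 (hN _)
    obtain ⟨hflat, hpt⟩ := (charts_iff hP f hN).1 h
    exact ⟨hN', (charts_iff hP f' hN').2
      ⟨MorphismProperty.of_isPullback (P := @Flat) hc hflat, fun y' => (pts y' (hN _)).1 (hpt _)⟩⟩
  · rintro ⟨hN', h⟩
    have hN : ∀ y : Y, IsLocallyNoetherian (f.fiber y) := fun y => by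
      obtain ⟨y', rfl⟩ := g.surjective y
      exact (Lib.Flat55.FibreNoetherian.fiber_iff f f' g' g hc y').2 (hN' y')
    obtain ⟨hflat, hpt⟩ := (charts_iff hP f' hN').1 h
    haveI : Surjective g' := MorphismProperty.of_isPullback hc.flip ‹Surjective g›
    haveI : Flat g' := MorphismProperty.of_isPullback hc.flip ‹Flat g›
    haveI : Flat (g' ≫ f) := by rw [hc.w]; exact MorphismProperty.comp_mem @Flat f' g hflat ‹_›
    refine ⟨hN, (charts_iff hP f hN).2 ⟨Lib.Flat55.FlatDescend.flat_of_comp g' f, fun y => ?_⟩⟩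
    obtain ⟨y', rfl⟩ := g.surjective y
    exact (pts y' (hN _)).2 (hpt y')

end Groth.Agent.H21.PropFibre
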