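import Groth.Agent.H21.PropFibre.Fppf
import Groth.Agent.Lib.NormalTensor.Main
import Groth.Agent.S2675

/-!
# Geometric normality is a good property
-/

set_option autoImplicit false
universe u

open TensorProduct

namespace Groth.Agent.H21.PropFibre

theorem good_geomNormal : Good.{u} (fun k _ A _ _ => EGA4.IsGeomNormal k A) where
  congr := fun k _ _ _ _ _ _ _ e h k' _ _ hk' =>
    Lib.NormalTensor.Basic.isNormalRing_congr
      (Algebra.TensorProduct.congr (AlgEquiv.refl (R := k) (A₁ := k')) e).toRingEquiv (h k' hk')
  localization := fun k _ F _ _ _ q _ h => S9412.result k F q.primeCompl _ h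
  ofLocal := fun k _ F _ _ _ h k' _ _ hk' =>
    Lib.NormalTensor.Main.isNormalRing_tensor_of_local k (A := F) (B := k') fun p _ => h p k' hk'
  baseChange := fun k K _ _ _ _ A _ _ _ => S2675.result k A K

end Groth.Agent.H21.PropFibre
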