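import Groth.Agent.H21.PropFibre.Fppf

/-!
# Geometric regularity is a good property
-/

set_option autoImplicit false
universe u

open TensorProduct Groth.Agent.H2.Rigid

namespace Groth.Agent.H21.PropFibre

theorem good_geometricallyRegular :
    Good.{u} (fun k _ A _ _ => CAlg.IsGeometricallyRegular k A) where
  congr := fun _ _ _ _ _ _ _ _ e h => GeomRegHom.congr e h
  localization := fun _ _ _ _ _ _ q _ h => GeomRegLocal.localization q.primeCompl _ h
  ofLocal := fun _ _ F _ _ _ h => GeomRegLocal.of_forall_localization fun P hP =>
    ⟨Localization.AtPrime P, inferInstance, inferInstance, inferInstance, inferInstance,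
      P.primeCompl, inferInstance, le_rfl, h P⟩
  baseChange := fun k K _ _ _ _ A _ _ _ => by
    haveI : IsNoetherianRing (A ⊗[k] K) := Algebra.EssFiniteType.isNoetherianRing A _
    haveI : IsNoetherianRing (K ⊗[k] A) :=
      isNoetherianRing_of_ringEquiv _ (Algebra.TensorProduct.comm k A K).toRingEquiv
    exact ⟨GeomRegHom.baseChange A K, GeomRegHom.descend A K⟩

end Groth.Agent.H21.PropFibre
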